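import Cfsg.Agent.Lib.KnownSimple.CoxeterCert.Basic
import Cfsg.Agent.Lib.Twisted.CoxeterD4

/-! Centre and generation certificates for the Coxeter group of type D4. -/

set_option autoImplicit false

namespace CfsgLib.KnownSimple.CoxeterCert.D4

open CfsgLib.Twisted.Cox

def m0 : List (List ℤ) := [[-1, -1, -1, -1], [1, 0, 0, 0], [0, 1, 0, 1], [0, 1, 1, 0]]
def m1 : List (List ℤ) := [[0, -1, 0, 0], [-1, -1, -1, -1], [1, 1, 1, 0], [1, 1, 0, 1]]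
def m2 : List (List ℤ) := [[-1, 0, 0, 0], [0, -1, 0, 0], [0, 0, -1, 0], [0, 0, 0, -1]]
def m3 : List (List ℤ) := [[1, 1, 1, 1], [-1, 0, 0, 0], [0, -1, 0, -1], [0, -1, -1, 0]]
def m4 : List (List ℤ) := [[0, 1, 0, 0], [1, 1, 1, 1], [-1, -1, -1, 0], [-1, -1, 0, -1]]
def m5 : List (List ℤ) := [[1, 1, 0, 0], [0, -1, 0, 0], [0, 1, 1, 0], [0, 1, 0, 1]]
def m6 : List (List ℤ) := [[1, 0, 0, 0], [0, 1, 1, 0], [0, 0, -1, 0], [0, 0, 0, 1]]
def m7 : List (List ℤ) := [[1, 2, 1, 1], [-1, -1, 0, 0], [0, 0, 0, -1], [0, 0, -1, 0]]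
def m8 : List (List ℤ) := [[0, -1, 0, 0], [1, 2, 1, 1], [-1, -1, -1, 0], [-1, -1, 0, -1]]
def m9 : List (List ℤ) := [[1, 1, 0, 0], [0, 1, 1, 1], [0, -1, -1, 0], [0, -1, 0, -1]]
def m10 : List (List ℤ) := [[-1, 0, 0, 0], [1, 1, 0, 0], [0, 0, 1, 0], [0, 0, 0, 1]]
def m11 : List (List ℤ) := [[1, 0, 0, 0], [0, 1, 1, 1], [0, 0, -1, 0], [0, 0, 0, -1]]
def m12 : List (List ℤ) := [[1, 0, 0, 0], [0, 1, 0, 1], [0, 0, 1, 0], [0, 0, 0, -1]]

def pre : List (List (List ℤ)) := [[[1, 0, 0, 0], [0, 1, 0, 0], [0, 0, 1, 0], [0, 0, 0, 1]], [[-1, 0, 0, 0], [1, 1, 0, 0], [0, 0, 1, 0], [0, 0, 0, 1]], [[-1, -1, 0, 0], [1, 0, 0, 0], [0, 1, 1, 0], [0, 1, 0, 1]], [[-1, -1, -1, 0], [1, 0, 0, 0], [0, 1, 0, 0], [0, 1, 1, 1]], [[-1, -1, -1, -1], [1, 0, 0, 0], [0, 1, 0, 1], [0, 1, 1, 0]]]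
def gens : List (List (List ℤ)) := [[[-1, 0, 0, 0], [1, 1, 0, 0], [0, 0, 1, 0], [0, 0, 0, 1]], [[1, 1, 0, 0], [0, -1, 0, 0], [0, 1, 1, 0], [0, 1, 0, 1]], [[1, 0, 0, 0], [0, 1, 1, 0], [0, 0, -1, 0], [0, 0, 0, 1]], [[1, 0, 0, 0], [0, 1, 0, 1], [0, 0, 1, 0], [0, 0, 0, -1]]]

theorem hdiag : ∀ i, cartD4Cox i i = 2 := by decide +kernel

theorem rho_cox : rho towerD4 ((List.finRange 4).map (((Cfsg.Lie.coxeterD4) : CoxeterMatrix (Fin 4))).simple).prod = toMat 4 m0 :=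
  (rho_coxElt towerD4 pre gens (by decide +kernel) (by decide +kernel) (by decide +kernel)).trans
    (by decide +kernel)

theorem eq_top (S : Subgroup (((Cfsg.Lie.coxeterD4) : CoxeterMatrix (Fin 4))).Group)
    (hc : ((List.finRange 4).map (((Cfsg.Lie.coxeterD4) : CoxeterMatrix (Fin 4))).simple).prod ∈ S)
    (ht1 : (((Cfsg.Lie.coxeterD4) : CoxeterMatrix (Fin 4))).simple 1 ∈ S) (ht2 : (((Cfsg.Lie.coxeterD4) : CoxeterMatrix (Fin 4))).simple 2 ∈ S) : S = ⊤ := by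
  have e0 : Mem towerD4 S m0 := ⟨_, hc, rho_cox⟩
  have e1 : Mem towerD4 S m1 := Mem.mul e0 e0 (by decide +kernel)
  have e2 : Mem towerD4 S m2 := Mem.mul e1 e0 (by decide +kernel)
  have e3 : Mem towerD4 S m3 := Mem.mul e2 e0 (by decide +kernel)
  have e4 : Mem towerD4 S m4 := Mem.mul e3 e0 (by decide +kernel)
  have e5 : Mem towerD4 S m5 := ⟨_, ht1, rho_simple towerD4 1 m5 (by decide +kernel)⟩
  have e6 : Mem towerD4 S m6 := ⟨_, ht2, rho_simple towerD4 2 m6 (by decide +kernel)⟩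
  have e7 : Mem towerD4 S m7 := Mem.mul e3 e5 (by decide +kernel)
  have e8 : Mem towerD4 S m8 := Mem.mul e4 e5 (by decide +kernel)
  have e9 : Mem towerD4 S m9 := Mem.mul e7 e0 (by decide +kernel)
  have e10 : Mem towerD4 S m10 := Mem.mul e8 e0 (by decide +kernel)
  have e11 : Mem towerD4 S m11 := Mem.mul e9 e5 (by decide +kernel)
  have e12 : Mem towerD4 S m12 := Mem.mul e11 e6 (by decide +kernel)
  refine eq_top_of_simple_mem fun i => ?_
  fin_cases i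
  · exact Mem.simple_mem e10 (by decide +kernel)
  · exact Mem.simple_mem e5 (by decide +kernel)
  · exact Mem.simple_mem e6 (by decide +kernel)
  · exact Mem.simple_mem e12 (by decide +kernel)

theorem center_eq :
    Nat.card (Subgroup.center (((Cfsg.Lie.coxeterD4) : CoxeterMatrix (Fin 4))).Group) = 2 ∧
      Subgroup.center (((Cfsg.Lie.coxeterD4) : CoxeterMatrix (Fin 4))).Group ≤ Subgroup.zpowers ((List.finRange 4).map (((Cfsg.Lie.coxeterD4) : CoxeterMatrix (Fin 4))).simple).prod := by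
  have hc : ((List.finRange 4).map (((Cfsg.Lie.coxeterD4) : CoxeterMatrix (Fin 4))).simple).prod ∈ Subgroup.zpowers ((List.finRange 4).map (((Cfsg.Lie.coxeterD4) : CoxeterMatrix (Fin 4))).simple).prod := Subgroup.mem_zpowers _
  have e0 : Mem towerD4 (Subgroup.zpowers ((List.finRange 4).map (((Cfsg.Lie.coxeterD4) : CoxeterMatrix (Fin 4))).simple).prod) m0 := ⟨_, hc, rho_cox⟩
  have e1 : Mem towerD4 (Subgroup.zpowers ((List.finRange 4).map (((Cfsg.Lie.coxeterD4) : CoxeterMatrix (Fin 4))).simple).prod) m1 := Mem.mul e0 e0 (by decide +kernel)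
  have e2 : Mem towerD4 (Subgroup.zpowers ((List.finRange 4).map (((Cfsg.Lie.coxeterD4) : CoxeterMatrix (Fin 4))).simple).prod) m2 := Mem.mul e1 e0 (by decide +kernel)
  exact center_two towerD4 hdiag 0 ![0, 0, 1, 1] (by decide +kernel) e2 (by decide +kernel)

end CfsgLib.KnownSimple.CoxeterCert.D4
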