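import Cfsg.Agent.Lib.KnownSimple.CoxeterCert.Basic
import Cfsg.Agent.Lib.Twisted.CoxeterE6

/-! Centre and generation certificates for the Coxeter group of type E6. -/

set_option autoImplicit false

namespace CfsgLib.KnownSimple.CoxeterCert.E6

open CfsgLib.Twisted.Cox

def m0 : List (List ℤ) := [[-1, 0, -1, -1, -1, -1], [0, -1, 0, -1, -1, -1], [1, 0, 0, 0, 0, 0], [0, 1, 1, 1, 1, 1], [0, 0, 0, 1, 0, 0], [0, 0, 0, 0, 1, 0]]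
def m1 : List (List ℤ) := [[0, -1, 0, -1, -1, 0], [0, 0, -1, -1, -1, 0], [-1, 0, -1, -1, -1, -1], [1, 0, 1, 1, 1, 0], [0, 1, 1, 1, 1, 1], [0, 0, 0, 1, 0, 0]]
def m2 : List (List ℤ) := [[0, 0, -1, -1, 0, 0], [-1, -1, -1, -2, -1, -1], [0, -1, 0, -1, -1, 0], [0, 1, 0, 1, 0, 0], [1, 0, 1, 1, 1, 0], [0, 1, 1, 1, 1, 1]]
def m3 : List (List ℤ) := [[-1, -1, -1, -1, -1, -1], [0, -1, -1, -1, -1, 0], [0, 0, -1, -1, 0, 0], [0, 0, 1, 0, 0, 0], [0, 1, 0, 1, 0, 0], [1, 0, 1, 1, 1, 0]]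
def m4 : List (List ℤ) := [[0, 0, 0, 0, 0, 1], [-1, 0, -1, -1, 0, 0], [-1, -1, -1, -1, -1, -1], [1, 0, 0, 0, 0, 0], [0, 0, 1, 0, 0, 0], [0, 1, 0, 1, 0, 0]]
def m5 : List (List ℤ) := [[0, 0, 0, 0, 1, 0], [0, -1, 0, 0, 0, 0], [0, 0, 0, 0, 0, 1], [-1, 0, -1, -1, -1, -1], [1, 0, 0, 0, 0, 0], [0, 0, 1, 0, 0, 0]]
def m6 : List (List ℤ) := [[0, 0, 0, 1, 0, 0], [0, 1, 0, 1, 1, 1], [0, 0, 0, 0, 1, 0], [0, -1, 0, -1, -1, 0], [-1, 0, -1, -1, -1, -1], [1, 0, 0, 0, 0, 0]]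
def m7 : List (List ℤ) := [[0, 1, 1, 1, 1, 1], [0, 0, 1, 1, 1, 0], [0, 0, 0, 1, 0, 0], [0, 0, -1, -1, 0, 0], [0, -1, 0, -1, -1, 0], [-1, 0, -1, -1, -1, -1]]
def m8 : List (List ℤ) := [[1, 0, 1, 1, 1, 0], [1, 1, 1, 2, 1, 1], [0, 1, 1, 1, 1, 1], [-1, -1, -1, -1, -1, -1], [0, 0, -1, -1, 0, 0], [0, -1, 0, -1, -1, 0]]
def m9 : List (List ℤ) := [[0, 1, 0, 1, 0, 0], [0, 1, 1, 1, 1, 0], [1, 0, 1, 1, 1, 0], [0, 0, 0, 0, 0, 1], [-1, -1, -1, -1, -1, -1], [0, 0, -1, -1, 0, 0]]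
def m10 : List (List ℤ) := [[0, 0, 1, 0, 0, 0], [1, 0, 1, 1, 0, 0], [0, 1, 0, 1, 0, 0], [0, 0, 0, 0, 1, 0], [0, 0, 0, 0, 0, 1], [-1, -1, -1, -1, -1, -1]]
def m11 : List (List ℤ) := [[-1, 0, 0, 0, 0, 0], [0, 1, 0, 0, 0, 0], [1, 0, 1, 0, 0, 0], [0, 0, 0, 1, 0, 0], [0, 0, 0, 0, 1, 0], [0, 0, 0, 0, 0, 1]]
def m12 : List (List ℤ) := [[0, 0, -1, -1, -1, -1], [0, -1, 0, -1, -1, -1], [-1, 0, 0, 0, 0, 0], [1, 1, 1, 1, 1, 1], [0, 0, 0, 1, 0, 0], [0, 0, 0, 0, 1, 0]]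
def m13 : List (List ℤ) := [[1, 0, 1, 0, 0, 0], [0, 1, 0, 0, 0, 0], [0, 0, -1, 0, 0, 0], [0, 0, 1, 1, 0, 0], [0, 0, 0, 0, 1, 0], [0, 0, 0, 0, 0, 1]]
def m14 : List (List ℤ) := [[-1, 0, -1, -1, -1, -1], [0, -1, -1, -1, -1, -1], [1, 0, 1, 0, 0, 0], [0, 1, 0, 1, 1, 1], [0, 0, 1, 1, 0, 0], [0, 0, 0, 0, 1, 0]]
def m15 : List (List ℤ) := [[1, 0, 0, 0, 0, 0], [0, 0, 0, -1, 0, 0], [0, 1, 1, 1, 0, 0], [0, -1, 0, 0, 0, 0], [0, 1, 0, 1, 1, 0], [0, 0, 0, 0, 0, 1]]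
def m16 : List (List ℤ) := [[-1, -1, -1, -2, -1, -1], [0, 0, 0, 0, -1, -1], [1, 0, 0, 0, 0, 0], [0, 1, 1, 1, 1, 1], [0, -1, 0, 0, 0, 0], [0, 1, 0, 1, 1, 0]]
def m17 : List (List ℤ) := [[0, 0, -1, -1, -1, 0], [1, 1, 1, 1, 1, 0], [0, 0, 1, 0, 0, 0], [0, 0, 0, 1, 0, 0], [-1, 0, -1, -1, 0, 0], [1, 0, 1, 1, 1, 1]]
def m18 : List (List ℤ) := [[0, 0, 0, 0, 0, -1], [-1, -1, -1, -2, -2, -1], [0, 0, -1, -1, -1, 0], [1, 1, 2, 2, 2, 1], [0, 0, 0, 1, 0, 0], [-1, 0, -1, -1, 0, 0]]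
def m19 : List (List ℤ) := [[1, 1, 1, 1, 1, 1], [0, 0, -1, -1, -1, -1], [0, -1, 0, -1, -1, -1], [0, 1, 1, 2, 1, 1], [0, 0, 0, 0, 1, 0], [0, -1, -1, -1, -1, 0]]
def m20 : List (List ℤ) := [[-1, 0, -1, -1, -1, -1], [0, 0, 1, 0, 0, 0], [1, 1, 1, 1, 1, 1], [0, -1, -1, -1, -1, -1], [0, 1, 1, 2, 1, 1], [0, 0, 0, 0, 1, 0]]
def m21 : List (List ℤ) := [[1, 0, 0, 0, 0, 0], [0, 1, 0, 1, 0, 0], [0, 0, 1, 1, 0, 0], [0, 0, 0, -1, 0, 0], [0, 0, 0, 1, 1, 0], [0, 0, 0, 0, 0, 1]]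
def m22 : List (List ℤ) := [[-1, 0, -1, -1, -1, -1], [0, -1, 0, -1, -1, -1], [1, 0, 0, 0, 0, 0], [0, 1, 1, 2, 1, 1], [0, 0, 0, -1, 0, 0], [0, 0, 0, 1, 1, 0]]
def m23 : List (List ℤ) := [[1, 0, 0, 0, 0, 0], [0, 1, 0, 0, 0, 0], [0, 0, 1, 0, 0, 0], [0, 0, 0, 1, 1, 0], [0, 0, 0, 0, -1, 0], [0, 0, 0, 0, 1, 1]]
def m24 : List (List ℤ) := [[1, 0, 0, 0, 0, 0], [0, 0, 0, 1, 0, 0], [0, 1, 1, 1, 0, 0], [0, -1, 0, -1, 0, 0], [0, 1, 0, 1, 1, 0], [0, 0, 0, 0, 0, 1]]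
def m25 : List (List ℤ) := [[1, 0, 0, 0, 0, 0], [0, -1, 0, 0, 0, 0], [0, 0, 1, 0, 0, 0], [0, 1, 0, 1, 0, 0], [0, 0, 0, 0, 1, 0], [0, 0, 0, 0, 0, 1]]
def m26 : List (List ℤ) := [[-1, 0, -1, -1, -1, -1], [0, -1, 0, -1, -1, -1], [1, 0, 0, 0, 0, 0], [0, 1, 1, 1, 1, 1], [0, 0, 0, 1, 1, 0], [0, 0, 0, 0, -1, 0]]
def m27 : List (List ℤ) := [[1, 0, 0, 0, 0, 0], [0, 1, 0, 0, 0, 0], [0, 0, 1, 0, 0, 0], [0, 0, 0, 1, 0, 0], [0, 0, 0, 0, 1, 1], [0, 0, 0, 0, 0, -1]]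

def pre : List (List (List ℤ)) := [[[1, 0, 0, 0, 0, 0], [0, 1, 0, 0, 0, 0], [0, 0, 1, 0, 0, 0], [0, 0, 0, 1, 0, 0], [0, 0, 0, 0, 1, 0], [0, 0, 0, 0, 0, 1]], [[-1, 0, 0, 0, 0, 0], [0, 1, 0, 0, 0, 0], [1, 0, 1, 0, 0, 0], [0, 0, 0, 1, 0, 0], [0, 0, 0, 0, 1, 0], [0, 0, 0, 0, 0, 1]], [[-1, 0, 0, 0, 0, 0], [0, -1, 0, 0, 0, 0], [1, 0, 1, 0, 0, 0], [0, 1, 0, 1, 0, 0], [0, 0, 0, 0, 1, 0], [0, 0, 0, 0, 0, 1]], [[-1, 0, -1, 0, 0, 0], [0, -1, 0, 0, 0, 0], [1, 0, 0, 0, 0, 0], [0, 1, 1, 1, 0, 0], [0, 0, 0, 0, 1, 0], [0, 0, 0, 0, 0, 1]], [[-1, 0, -1, -1, 0, 0], [0, -1, 0, -1, 0, 0], [1, 0, 0, 0, 0, 0], [0, 1, 1, 1, 0, 0], [0, 0, 0, 1, 1, 0], [0, 0, 0, 0, 0, 1]], [[-1, 0, -1, -1, -1, 0], [0, -1, 0, -1, -1, 0], [1, 0, 0, 0, 0, 0], [0, 1, 1, 1, 1, 0], [0, 0, 0, 1, 0, 0], [0, 0, 0, 0, 1, 1]], [[-1, 0, -1, -1,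 -1, -1], [0, -1, 0, -1, -1, -1], [1, 0, 0, 0, 0, 0], [0, 1, 1, 1, 1, 1], [0, 0, 0, 1, 0, 0], [0, 0, 0, 0, 1, 0]]]
def gens : List (List (List ℤ)) := [[[-1, 0, 0, 0, 0, 0], [0, 1, 0, 0, 0, 0], [1, 0, 1, 0, 0, 0], [0, 0, 0, 1, 0, 0], [0, 0, 0, 0, 1, 0], [0, 0, 0, 0, 0, 1]], [[1, 0, 0, 0, 0, 0], [0, -1, 0, 0, 0, 0], [0, 0, 1, 0, 0, 0], [0, 1, 0, 1, 0, 0], [0, 0, 0, 0, 1, 0], [0, 0, 0, 0, 0, 1]], [[1, 0, 1, 0, 0, 0], [0, 1, 0, 0, 0, 0], [0, 0, -1, 0, 0, 0], [0, 0, 1, 1, 0, 0], [0, 0, 0, 0, 1, 0], [0, 0, 0, 0, 0, 1]], [[1, 0, 0, 0, 0, 0], [0, 1, 0, 1, 0, 0], [0, 0, 1, 1, 0, 0], [0, 0, 0, -1, 0, 0], [0, 0, 0, 1, 1, 0], [0, 0, 0, 0, 0, 1]], [[1, 0, 0, 0, 0, 0], [0, 1, 0, 0, 0, 0], [0, 0, 1, 0, 0, 0], [0, 0, 0, 1, 1, 0], [0, 0, 0, 0, -1, 0], [0, 0, 0, 0, 1, 1]], [[1, 0, 0, 0, 0, 0], [0, 1, 0, 0, 0, 0],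 [0, 0, 1, 0, 0, 0], [0, 0, 0, 1, 0, 0], [0, 0, 0, 0, 1, 1], [0, 0, 0, 0, 0, -1]]]

theorem hdiag : ∀ i, cartE6Cox i i = 2 := by decide +kernel

theorem rho_cox : rho towerE6 ((List.finRange 6).map (((CoxeterMatrix.E₆) : CoxeterMatrix (Fin 6))).simple).prod = toMat 6 m0 :=
  (rho_coxElt towerE6 pre gens (by decide +kernel) (by decide +kernel) (by decide +kernel)).trans
    (by decide +kernel)

theorem eq_top (S : Subgroup (((CoxeterMatrix.E₆) : CoxeterMatrix (Fin 6))).Group)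
    (hc : ((List.finRange 6).map (((CoxeterMatrix.E₆) : CoxeterMatrix (Fin 6))).simple).prod ∈ S)
    (ht0 : (((CoxeterMatrix.E₆) : CoxeterMatrix (Fin 6))).simple 0 ∈ S) : S = ⊤ := by
  have e0 : Mem towerE6 S m0 := ⟨_, hc, rho_cox⟩
  have e1 : Mem towerE6 S m1 := Mem.mul e0 e0 (by decide +kernel)
  have e2 : Mem towerE6 S m2 := Mem.mul e1 e0 (by decide +kernel)
  have e3 : Mem towerE6 S m3 := Mem.mul e2 e0 (by decide +kernel)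
  have e4 : Mem towerE6 S m4 := Mem.mul e3 e0 (by decide +kernel)
  have e5 : Mem towerE6 S m5 := Mem.mul e4 e0 (by decide +kernel)
  have e6 : Mem towerE6 S m6 := Mem.mul e5 e0 (by decide +kernel)
  have e7 : Mem towerE6 S m7 := Mem.mul e6 e0 (by decide +kernel)
  have e8 : Mem towerE6 S m8 := Mem.mul e7 e0 (by decide +kernel)
  have e9 : Mem towerE6 S m9 := Mem.mul e8 e0 (by decide +kernel)
  have e10 : Mem towerE6 S m10 := Mem.mul e9 e0 (by decide +kernel)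
  have e11 : Mem towerE6 S m11 := ⟨_, ht0, rho_simple towerE6 0 m11 (by decide +kernel)⟩
  have e12 : Mem towerE6 S m12 := Mem.mul e0 e11 (by decide +kernel)
  have e13 : Mem towerE6 S m13 := Mem.mul e12 e10 (by decide +kernel)
  have e14 : Mem towerE6 S m14 := Mem.mul e0 e13 (by decide +kernel)
  have e15 : Mem towerE6 S m15 := Mem.mul e14 e10 (by decide +kernel)
  have e16 : Mem towerE6 S m16 := Mem.mul e0 e15 (by decide +kernel)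
  have e17 : Mem towerE6 S m17 := Mem.mul e16 e10 (by decide +kernel)
  have e18 : Mem towerE6 S m18 := Mem.mul e0 e17 (by decide +kernel)
  have e19 : Mem towerE6 S m19 := Mem.mul e18 e10 (by decide +kernel)
  have e20 : Mem towerE6 S m20 := Mem.mul e0 e19 (by decide +kernel)
  have e21 : Mem towerE6 S m21 := Mem.mul e20 e10 (by decide +kernel)
  have e22 : Mem towerE6 S m22 := Mem.mul e0 e21 (by decide +kernel)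
  have e23 : Mem towerE6 S m23 := Mem.mul e22 e10 (by decide +kernel)
  have e24 : Mem towerE6 S m24 := Mem.mul e15 e21 (by decide +kernel)
  have e25 : Mem towerE6 S m25 := Mem.mul e24 e15 (by decide +kernel)
  have e26 : Mem towerE6 S m26 := Mem.mul e0 e23 (by decide +kernel)
  have e27 : Mem towerE6 S m27 := Mem.mul e26 e10 (by decide +kernel)
  refine eq_top_of_simple_mem fun i => ?_
  fin_cases i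
  · exact Mem.simple_mem e11 (by decide +kernel)
  · exact Mem.simple_mem e25 (by decide +kernel)
  · exact Mem.simple_mem e13 (by decide +kernel)
  · exact Mem.simple_mem e21 (by decide +kernel)
  · exact Mem.simple_mem e23 (by decide +kernel)
  · exact Mem.simple_mem e27 (by decide +kernel)

theorem center_eq :
    Nat.card (Subgroup.center (((CoxeterMatrix.E₆) : CoxeterMatrix (Fin 6))).Group) = 1 ∧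
      Subgroup.center (((CoxeterMatrix.E₆) : CoxeterMatrix (Fin 6))).Group ≤ Subgroup.zpowers ((List.finRange 6).map (((CoxeterMatrix.E₆) : CoxeterMatrix (Fin 6))).simple).prod := by
  exact center_one towerE6 hdiag 0 ![0, 3, 0, 2, 3, 4] (by decide +kernel) _ [[1, 0, 0, 0, 0, 0], [-1, 0, 1, 0, 0, 0], [0, 0, -1, 1, 0, 0], [0, 1, 0, -1, 1, 0], [0, -1, 0, 0, 1, 0], [0, 1, 0, 0, -1, 1], [0, -1, 0, 1, -1, 1], [0, 1, 0, 0, 0, -1], [0, 0, 1, -1, 0, 1], [0, -1, 0, 1, 0, -1], [1, 0, -1, 0, 0, 1], [0, 0, 1, -1, 1, -1], [-1, 0, 0, 0, 0, 1], [1, 0, -1, 0, 1, -1], [0, 0, 1, 0, -1, 0], [-1, 0, 0, 0, 1, -1], [1, 0, -1, 1, -1, 0], [-1, 0, 0, 1, -1, 0], [1, 1, 0, -1, 0, 0], [-1, 1, 1, -1, 0, 0], [1, -1, 0, 0, 0, 0], [-1, -1, 1, 0, 0, 0], [0, 1, -1, 0, 0, 0], [0, -1, -1, 1, 0, 0], [0, 0, 0, -1, 1, 0], [0, 0, 0,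 0, -1, 1], [0, 0, 0, 0, 0, -1]] [1, 0, 0, 0, 0, 0]
    (by decide +kernel) (by decide +kernel) (by decide +kernel)

end CfsgLib.KnownSimple.CoxeterCert.E6
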