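import Cfsg.Agent.Lib.KnownSimple.CoxeterCert.Basic
import Cfsg.Agent.Lib.Twisted.CoxeterE8

/-! Centre and generation certificates for the Coxeter group of type E8. -/

set_option autoImplicit false

namespace CfsgLib.KnownSimple.CoxeterCert.E8

open CfsgLib.Twisted.Cox

def m0 : List (List ℤ) := [[-1, 0, -1, -1, -1, -1, -1, -1], [0, -1, 0, -1, -1, -1, -1, -1], [1, 0, 0, 0, 0, 0, 0, 0], [0, 1, 1, 1, 1, 1, 1, 1], [0, 0, 0, 1, 0, 0, 0, 0], [0, 0, 0, 0, 1, 0, 0, 0], [0, 0, 0, 0, 0, 1, 0, 0], [0, 0, 0, 0, 0, 0, 1, 0]]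
def m1 : List (List ℤ) := [[0, -1, 0, -1, -1, -1, -1, 0], [0, 0, -1, -1, -1, -1, -1, 0], [-1, 0, -1, -1, -1, -1, -1, -1], [1, 0, 1, 1, 1, 1, 1, 0], [0, 1, 1, 1, 1, 1, 1, 1], [0, 0, 0, 1, 0, 0, 0, 0], [0, 0, 0, 0, 1, 0, 0, 0], [0, 0, 0, 0, 0, 1, 0, 0]]
def m2 : List (List ℤ) := [[0, 0, -1, -1, -1, -1, 0, 0], [-1, -1, -1, -2, -2, -2, -1, -1], [0, -1, 0, -1, -1, -1, -1, 0], [0, 1, 0, 1, 1, 1, 0, 0], [1, 0, 1, 1, 1, 1, 1, 0], [0, 1, 1, 1, 1, 1, 1, 1], [0, 0, 0, 1, 0, 0, 0, 0], [0, 0, 0, 0, 1, 0, 0, 0]]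
def m3 : List (List ℤ) := [[-1, -1, -1, -2, -2, -1, -1, -1], [0, -1, -1, -2, -2, -1, -1, 0], [0, 0, -1, -1, -1, -1, 0, 0], [0, 0, 1, 1, 1, 0, 0, 0], [0, 1, 0, 1, 1, 1, 0, 0], [1, 0, 1, 1, 1, 1, 1, 0], [0, 1, 1, 1, 1, 1, 1, 1], [0, 0, 0, 1, 0, 0, 0, 0]]
def m4 : List (List ℤ) := [[0, -1, -1, -2, -1, -1, -1, 0], [-1, -1, -2, -3, -2, -2, -1, -1], [-1, -1, -1, -2, -2, -1, -1, -1], [1, 1, 1, 2, 1, 1, 1, 1], [0, 0, 1, 1, 1, 0, 0, 0], [0, 1, 0, 1, 1, 1, 0, 0], [1, 0, 1, 1, 1, 1, 1, 0], [0, 1, 1, 1, 1, 1, 1, 1]]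
def m5 : List (List ℤ) := [[-1, -1, -2, -2, -2, -2, -1, -1], [-1, -2, -2, -3, -3, -2, -2, -1], [0, -1, -1, -2, -1, -1, -1, 0], [0, 1, 1, 1, 1, 1, 1, 0], [1, 1, 1, 2, 1, 1, 1, 1], [0, 0, 1, 1, 1, 0, 0, 0], [0, 1, 0, 1, 1, 1, 0, 0], [1, 0, 1, 1, 1, 1, 1, 0]]
def m6 : List (List ℤ) := [[-1, -1, -1, -2, -2, -1, -1, 0], [-1, -1, -2, -3, -2, -2, -1, 0], [-1, -1, -2, -2, -2, -2, -1, -1], [1, 0, 1, 1, 1, 1, 0, 0], [0, 1, 1, 1, 1, 1, 1, 0], [1, 1, 1, 2, 1, 1, 1, 1], [0, 0, 1, 1, 1, 0, 0, 0], [0, 1, 0, 1, 1, 1, 0, 0]]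
def m7 : List (List ℤ) := [[0, -1, -1, -2, -1, -1, 0, 0], [-1, -2, -2, -3, -3, -2, -1, -1], [-1, -1, -1, -2, -2, -1, -1, 0], [0, 1, 0, 1, 1, 0, 0, 0], [1, 0, 1, 1, 1, 1, 0, 0], [0, 1, 1, 1, 1, 1, 1, 0], [1, 1, 1, 2, 1, 1, 1, 1], [0, 0, 1, 1, 1, 0, 0, 0]]
def m8 : List (List ℤ) := [[-1, -1, -2, -2, -2, -1, -1, -1], [-1, -1, -2, -3, -2, -1, -1, 0], [0, -1, -1, -2, -1, -1, 0, 0], [0, 0, 1, 1, 0, 0, 0, 0], [0, 1, 0, 1, 1, 0, 0, 0], [1, 0, 1, 1, 1, 1, 0, 0], [0, 1, 1, 1, 1, 1, 1, 0], [1, 1, 1, 2, 1, 1, 1, 1]]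
def m9 : List (List ℤ) := [[-1, -1, -1, -2, -1, -1, -1, 0], [-1, -2, -2, -3, -2, -2, -1, -1], [-1, -1, -2, -2, -2, -1, -1, -1], [1, 1, 1, 1, 1, 1, 1, 1], [0, 0, 1, 1, 0, 0, 0, 0], [0, 1, 0, 1, 1, 0, 0, 0], [1, 0, 1, 1, 1, 1, 0, 0], [0, 1, 1, 1, 1, 1, 1, 0]]
def m10 : List (List ℤ) := [[0, -1, -1, -1, -1, -1, 0, 0], [-1, -1, -2, -2, -2, -1, -1, 0], [-1, -1, -1, -2, -1, -1, -1, 0], [0, 0, 0, 0, 0, 0, 0, -1], [1, 1, 1, 1, 1, 1, 1, 1], [0, 0, 1, 1, 0, 0, 0, 0], [0, 1, 0, 1, 1, 0, 0, 0], [1, 0, 1, 1, 1, 1, 0, 0]]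
def m11 : List (List ℤ) := [[-1, 0, -1, -1, -1, 0, 0, 0], [-1, -1, -1, -2, -1, -1, 0, 0], [0, -1, -1, -1, -1, -1, 0, 0], [0, 0, 0, 0, 0, 0, -1, 0], [0, 0, 0, 0, 0, 0, 0, -1], [1, 1, 1, 1, 1, 1, 1, 1], [0, 0, 1, 1, 0, 0, 0, 0], [0, 1, 0, 1, 1, 0, 0, 0]]
def m12 : List (List ℤ) := [[0, -1, 0, -1, 0, 0, 0, 0], [0, -1, -1, -1, -1, 0, 0, 0], [-1, 0, -1, -1, -1, 0, 0, 0], [0, 0, 0, 0, 0, -1, 0, 0], [0, 0, 0, 0, 0, 0, -1, 0], [0, 0, 0, 0, 0, 0, 0, -1], [1, 1, 1, 1, 1, 1, 1, 1], [0, 0, 1, 1, 0, 0, 0, 0]]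
def m13 : List (List ℤ) := [[0, 0, -1, 0, 0, 0, 0, 0], [-1, 0, -1, -1, 0, 0, 0, 0], [0, -1, 0, -1, 0, 0, 0, 0], [0, 0, 0, 0, -1, 0, 0, 0], [0, 0, 0, 0, 0, -1, 0, 0], [0, 0, 0, 0, 0, 0, -1, 0], [0, 0, 0, 0, 0, 0, 0, -1], [1, 1, 1, 1, 1, 1, 1, 1]]
def m14 : List (List ℤ) := [[-1, 0, 0, 0, 0, 0, 0, 0], [0, -1, 0, 0, 0, 0, 0, 0], [0, 0, -1, 0, 0, 0, 0, 0], [0, 0, 0, -1, 0, 0, 0, 0], [0, 0, 0, 0, -1, 0, 0, 0], [0, 0, 0, 0, 0, -1, 0, 0], [0, 0, 0, 0, 0, 0, -1, 0], [0, 0, 0, 0, 0, 0, 0, -1]]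
def m15 : List (List ℤ) := [[1, 0, 1, 1, 1, 1, 1, 1], [0, 1, 0, 1, 1, 1, 1, 1], [-1, 0, 0, 0, 0, 0, 0, 0], [0, -1, -1, -1, -1, -1, -1, -1], [0, 0, 0, -1, 0, 0, 0, 0], [0, 0, 0, 0, -1, 0, 0, 0], [0, 0, 0, 0, 0, -1, 0, 0], [0, 0, 0, 0, 0, 0, -1, 0]]
def m16 : List (List ℤ) := [[0, 1, 0, 1, 1, 1, 1, 0], [0, 0, 1, 1, 1, 1, 1, 0], [1, 0, 1, 1, 1, 1, 1, 1], [-1, 0, -1, -1, -1, -1, -1, 0], [0, -1, -1, -1, -1, -1, -1, -1], [0, 0, 0, -1, 0, 0, 0, 0], [0, 0, 0, 0, -1, 0, 0, 0], [0, 0, 0, 0, 0, -1, 0, 0]]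
def m17 : List (List ℤ) := [[0, 0, 1, 1, 1, 1, 0, 0], [1, 1, 1, 2, 2, 2, 1, 1], [0, 1, 0, 1, 1, 1, 1, 0], [0, -1, 0, -1, -1, -1, 0, 0], [-1, 0, -1, -1, -1, -1, -1, 0], [0, -1, -1, -1, -1, -1, -1, -1], [0, 0, 0, -1, 0, 0, 0, 0], [0, 0, 0, 0, -1, 0, 0, 0]]
def m18 : List (List ℤ) := [[1, 1, 1, 2, 2, 1, 1, 1], [0, 1, 1, 2, 2, 1, 1, 0], [0, 0, 1, 1, 1, 1, 0, 0], [0, 0, -1, -1, -1, 0, 0, 0], [0, -1, 0, -1, -1, -1, 0, 0], [-1, 0, -1, -1, -1, -1, -1, 0], [0, -1, -1, -1, -1, -1, -1, -1], [0, 0, 0, -1, 0, 0, 0, 0]]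
def m19 : List (List ℤ) := [[0, 1, 1, 2, 1, 1, 1, 0], [1, 1, 2, 3, 2, 2, 1, 1], [1, 1, 1, 2, 2, 1, 1, 1], [-1, -1, -1, -2, -1, -1, -1, -1], [0, 0, -1, -1, -1, 0, 0, 0], [0, -1, 0, -1, -1, -1, 0, 0], [-1, 0, -1, -1, -1, -1, -1, 0], [0, -1, -1, -1, -1, -1, -1, -1]]
def m20 : List (List ℤ) := [[1, 1, 2, 2, 2, 2, 1, 1], [1, 2, 2, 3, 3, 2, 2, 1], [0, 1, 1, 2, 1, 1, 1, 0], [0, -1, -1, -1, -1, -1, -1, 0], [-1, -1, -1, -2, -1, -1, -1, -1], [0, 0, -1, -1, -1, 0, 0, 0], [0, -1, 0, -1, -1, -1, 0, 0], [-1, 0, -1, -1, -1, -1, -1, 0]]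
def m21 : List (List ℤ) := [[1, 1, 1, 2, 2, 1, 1, 0], [1, 1, 2, 3, 2, 2, 1, 0], [1, 1, 2, 2, 2, 2, 1, 1], [-1, 0, -1, -1, -1, -1, 0, 0], [0, -1, -1, -1, -1, -1, -1, 0], [-1, -1, -1, -2, -1, -1, -1, -1], [0, 0, -1, -1, -1, 0, 0, 0], [0, -1, 0, -1, -1, -1, 0, 0]]
def m22 : List (List ℤ) := [[0, 1, 1, 2, 1, 1, 0, 0], [1, 2, 2, 3, 3, 2, 1, 1], [1, 1, 1, 2, 2, 1, 1, 0], [0, -1, 0, -1, -1, 0, 0, 0], [-1, 0, -1, -1, -1, -1, 0, 0], [0, -1, -1, -1, -1, -1, -1, 0], [-1, -1, -1, -2, -1, -1, -1, -1], [0, 0, -1, -1, -1, 0, 0, 0]]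
def m23 : List (List ℤ) := [[1, 1, 2, 2, 2, 1, 1, 1], [1, 1, 2, 3, 2, 1, 1, 0], [0, 1, 1, 2, 1, 1, 0, 0], [0, 0, -1, -1, 0, 0, 0, 0], [0, -1, 0, -1, -1, 0, 0, 0], [-1, 0, -1, -1, -1, -1, 0, 0], [0, -1, -1, -1, -1, -1, -1, 0], [-1, -1, -1, -2, -1, -1, -1, -1]]
def m24 : List (List ℤ) := [[1, 1, 1, 2, 1, 1, 1, 0], [1, 2, 2, 3, 2, 2, 1, 1], [1, 1, 2, 2, 2, 1, 1, 1], [-1, -1, -1, -1, -1, -1, -1, -1], [0, 0, -1, -1, 0, 0, 0, 0], [0, -1, 0, -1, -1, 0, 0, 0], [-1, 0, -1, -1, -1, -1, 0, 0], [0, -1, -1, -1, -1, -1, -1, 0]]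
def m25 : List (List ℤ) := [[0, 1, 1, 1, 1, 1, 0, 0], [1, 1, 2, 2, 2, 1, 1, 0], [1, 1, 1, 2, 1, 1, 1, 0], [0, 0, 0, 0, 0, 0, 0, 1], [-1, -1, -1, -1, -1, -1, -1, -1], [0, 0, -1, -1, 0, 0, 0, 0], [0, -1, 0, -1, -1, 0, 0, 0], [-1, 0, -1, -1, -1, -1, 0, 0]]
def m26 : List (List ℤ) := [[1, 0, 1, 1, 1, 0, 0, 0], [1, 1, 1, 2, 1, 1, 0, 0], [0, 1, 1, 1, 1, 1, 0, 0], [0, 0, 0, 0, 0, 0, 1, 0], [0, 0, 0, 0, 0, 0, 0, 1], [-1, -1, -1, -1, -1, -1, -1, -1], [0, 0, -1, -1, 0, 0, 0, 0], [0, -1, 0, -1, -1, 0, 0, 0]]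
def m27 : List (List ℤ) := [[0, 1, 0, 1, 0, 0, 0, 0], [0, 1, 1, 1, 1, 0, 0, 0], [1, 0, 1, 1, 1, 0, 0, 0], [0, 0, 0, 0, 0, 1, 0, 0], [0, 0, 0, 0, 0, 0, 1, 0], [0, 0, 0, 0, 0, 0, 0, 1], [-1, -1, -1, -1, -1, -1, -1, -1], [0, 0, -1, -1, 0, 0, 0, 0]]
def m28 : List (List ℤ) := [[0, 0, 1, 0, 0, 0, 0, 0], [1, 0, 1, 1, 0, 0, 0, 0], [0, 1, 0, 1, 0, 0, 0, 0], [0, 0, 0, 0, 1, 0, 0, 0], [0, 0, 0, 0, 0, 1, 0, 0], [0, 0, 0, 0, 0, 0, 1, 0], [0, 0, 0, 0, 0, 0, 0, 1], [-1, -1, -1, -1, -1, -1, -1, -1]]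
def m29 : List (List ℤ) := [[1, 0, 0, 0, 0, 0, 0, 0], [0, 1, 0, 1, 0, 0, 0, 0], [0, 0, 1, 1, 0, 0, 0, 0], [0, 0, 0, -1, 0, 0, 0, 0], [0, 0, 0, 1, 1, 0, 0, 0], [0, 0, 0, 0, 0, 1, 0, 0], [0, 0, 0, 0, 0, 0, 1, 0], [0, 0, 0, 0, 0, 0, 0, 1]]
def m30 : List (List ℤ) := [[-1, 0, -1, -1, -1, -1, -1, -1], [0, -1, 0, -1, -1, -1, -1, -1], [1, 0, 0, 0, 0, 0, 0, 0], [0, 1, 1, 2, 1, 1, 1, 1], [0, 0, 0, -1, 0, 0, 0, 0], [0, 0, 0, 1, 1, 0, 0, 0], [0, 0, 0, 0, 0, 1, 0, 0], [0, 0, 0, 0, 0, 0, 1, 0]]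
def m31 : List (List ℤ) := [[1, 0, 0, 0, 0, 0, 0, 0], [0, 1, 0, 0, 0, 0, 0, 0], [0, 0, 1, 0, 0, 0, 0, 0], [0, 0, 0, 1, 1, 0, 0, 0], [0, 0, 0, 0, -1, 0, 0, 0], [0, 0, 0, 0, 1, 1, 0, 0], [0, 0, 0, 0, 0, 0, 1, 0], [0, 0, 0, 0, 0, 0, 0, 1]]
def m32 : List (List ℤ) := [[-1, 0, -1, -1, -1, -1, -1, -1], [0, -1, 0, -1, -1, -1, -1, -1], [1, 0, 0, 0, 0, 0, 0, 0], [0, 1, 1, 1, 1, 1, 1, 1], [0, 0, 0, 1, 1, 0, 0, 0], [0, 0, 0, 0, -1, 0, 0, 0], [0, 0, 0, 0, 1, 1, 0, 0], [0, 0, 0, 0, 0, 0, 1, 0]]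
def m33 : List (List ℤ) := [[1, 0, 0, 0, 0, 0, 0, 0], [0, 1, 0, 0, 0, 0, 0, 0], [0, 0, 1, 0, 0, 0, 0, 0], [0, 0, 0, 1, 0, 0, 0, 0], [0, 0, 0, 0, 1, 1, 0, 0], [0, 0, 0, 0, 0, -1, 0, 0], [0, 0, 0, 0, 0, 1, 1, 0], [0, 0, 0, 0, 0, 0, 0, 1]]
def m34 : List (List ℤ) := [[1, 0, 0, 0, 0, 0, 0, 0], [0, 1, 0, 1, 1, 0, 0, 0], [0, 0, 1, 1, 1, 0, 0, 0], [0, 0, 0, -1, -1, 0, 0, 0], [0, 0, 0, 1, 0, 0, 0, 0], [0, 0, 0, 0, 1, 1, 0, 0], [0, 0, 0, 0, 0, 0, 1, 0], [0, 0, 0, 0, 0, 0, 0, 1]]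
def m35 : List (List ℤ) := [[1, 0, 0, 0, 0, 0, 0, 0], [0, 1, 0, 1, 1, 0, 0, 0], [0, 0, 1, 1, 1, 0, 0, 0], [0, 0, 0, 0, -1, 0, 0, 0], [0, 0, 0, -1, 0, 0, 0, 0], [0, 0, 0, 1, 1, 1, 0, 0], [0, 0, 0, 0, 0, 0, 1, 0], [0, 0, 0, 0, 0, 0, 0, 1]]
def m36 : List (List ℤ) := [[-1, 0, -1, -1, -1, -1, -1, -1], [0, -1, 0, -1, -1, -1, -1, -1], [1, 0, 0, 0, 0, 0, 0, 0], [0, 1, 1, 1, 1, 1, 1, 1], [0, 0, 0, 1, 0, 0, 0, 0], [0, 0, 0, 0, 1, 1, 0, 0], [0, 0, 0, 0, 0, -1, 0, 0], [0, 0, 0, 0, 0, 1, 1, 0]]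
def m37 : List (List ℤ) := [[1, 0, 0, 0, 0, 0, 0, 0], [0, 1, 0, 0, 0, 0, 0, 0], [0, 0, 1, 0, 0, 0, 0, 0], [0, 0, 0, 1, 0, 0, 0, 0], [0, 0, 0, 0, 1, 0, 0, 0], [0, 0, 0, 0, 0, 1, 1, 0], [0, 0, 0, 0, 0, 0, -1, 0], [0, 0, 0, 0, 0, 0, 1, 1]]
def m38 : List (List ℤ) := [[1, 0, 0, 0, 0, 0, 0, 0], [0, 1, 0, 0, 0, 0, 0, 0], [0, 0, 1, 0, 0, 0, 0, 0], [0, 0, 0, 1, 1, 1, 0, 0], [0, 0, 0, 0, -1, -1, 0, 0], [0, 0, 0, 0, 1, 0, 0, 0], [0, 0, 0, 0, 0, 1, 1, 0], [0, 0, 0, 0, 0, 0, 0, 1]]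
def m39 : List (List ℤ) := [[1, 0, 0, 0, 0, 0, 0, 0], [0, 1, 0, 0, 0, 0, 0, 0], [0, 0, 1, 0, 0, 0, 0, 0], [0, 0, 0, 1, 1, 1, 0, 0], [0, 0, 0, 0, 0, -1, 0, 0], [0, 0, 0, 0, -1, 0, 0, 0], [0, 0, 0, 0, 1, 1, 1, 0], [0, 0, 0, 0, 0, 0, 0, 1]]
def m40 : List (List ℤ) := [[-1, 0, -1, -1, -1, -1, -1, -1], [0, -1, 0, -1, -1, -1, -1, -1], [1, 0, 0, 0, 0, 0, 0, 0], [0, 1, 1, 1, 1, 1, 1, 1], [0, 0, 0, 1, 0, 0, 0, 0], [0, 0, 0, 0, 1, 0, 0, 0], [0, 0, 0, 0, 0, 1, 1, 0], [0, 0, 0, 0, 0, 0, -1, 0]]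
def m41 : List (List ℤ) := [[1, 0, 0, 0, 0, 0, 0, 0], [0, 1, 0, 0, 0, 0, 0, 0], [0, 0, 1, 0, 0, 0, 0, 0], [0, 0, 0, 1, 0, 0, 0, 0], [0, 0, 0, 0, 1, 0, 0, 0], [0, 0, 0, 0, 0, 1, 0, 0], [0, 0, 0, 0, 0, 0, 1, 1], [0, 0, 0, 0, 0, 0, 0, -1]]
def m42 : List (List ℤ) := [[-1, 0, -1, -1, -1, -1, -1, 0], [0, -1, 0, -1, -1, -1, -1, 0], [1, 0, 0, 0, 0, 0, 0, 0], [0, 1, 1, 1, 1, 1, 1, 0], [0, 0, 0, 1, 0, 0, 0, 0], [0, 0, 0, 0, 1, 0, 0, 0], [0, 0, 0, 0, 0, 1, 0, 0], [0, 0, 0, 0, 0, 0, 1, 1]]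
def m43 : List (List ℤ) := [[0, -1, -1, -1, -1, -1, -1, -1], [-1, 0, -1, -1, -1, -1, -1, -1], [0, 0, 1, 0, 0, 0, 0, 0], [1, 1, 1, 2, 1, 1, 1, 1], [0, 0, 0, 0, 1, 0, 0, 0], [0, 0, 0, 0, 0, 1, 0, 0], [0, 0, 0, 0, 0, 0, 1, 0], [-1, -1, -1, -1, -1, -1, -1, 0]]
def m44 : List (List ℤ) := [[0, 1, 0, 0, 0, 0, 0, 0], [1, 0, 1, 0, 0, 0, 0, 0], [0, -1, -1, -1, -1, -1, -1, -1], [-1, 0, 0, 0, 0, 0, 0, 0], [1, 1, 1, 2, 1, 1, 1, 1], [0, 0, 0, 0, 1, 0, 0, 0], [0, 0, 0, 0, 0, 1, 0, 0], [0, 0, 0, 0, 0, 0, 1, 0]]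
def m45 : List (List ℤ) := [[1, 0, 1, 1, 0, 0, 0, 0], [0, 1, 1, 1, 0, 0, 0, 0], [0, 0, 0, -1, 0, 0, 0, 0], [0, 0, -1, 0, 0, 0, 0, 0], [0, 0, 1, 1, 1, 0, 0, 0], [0, 0, 0, 0, 0, 1, 0, 0], [0, 0, 0, 0, 0, 0, 1, 0], [0, 0, 0, 0, 0, 0, 0, 1]]
def m46 : List (List ℤ) := [[-1, 0, -1, -1, -1, -1, -1, -1], [0, -1, -1, -2, -1, -1, -1, -1], [1, 0, 1, 1, 0, 0, 0, 0], [0, 1, 1, 1, 1, 1, 1, 1], [0, 0, -1, 0, 0, 0, 0, 0], [0, 0, 1, 1, 1, 0, 0, 0], [0, 0, 0, 0, 0, 1, 0, 0], [0, 0, 0, 0, 0, 0, 1, 0]]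
def m47 : List (List ℤ) := [[1, 0, 0, 0, 0, 0, 0, 0], [0, 0, 0, -1, -1, 0, 0, 0], [0, 1, 1, 1, 1, 0, 0, 0], [0, 0, 0, 1, 0, 0, 0, 0], [0, -1, 0, -1, 0, 0, 0, 0], [0, 1, 0, 1, 1, 1, 0, 0], [0, 0, 0, 0, 0, 0, 1, 0], [0, 0, 0, 0, 0, 0, 0, 1]]
def m48 : List (List ℤ) := [[1, 0, 1, 1, 0, 0, 0, 0], [0, 1, 0, 1, 0, 0, 0, 0], [0, 0, -1, -1, 0, 0, 0, 0], [0, 0, 1, 0, 0, 0, 0, 0], [0, 0, 0, 1, 1, 0, 0, 0], [0, 0, 0, 0, 0, 1, 0, 0], [0, 0, 0, 0, 0, 0, 1, 0], [0, 0, 0, 0, 0, 0, 0, 1]]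
def m49 : List (List ℤ) := [[1, 0, 1, 0, 0, 0, 0, 0], [0, 1, 0, 0, 0, 0, 0, 0], [0, 0, -1, 0, 0, 0, 0, 0], [0, 0, 1, 1, 0, 0, 0, 0], [0, 0, 0, 0, 1, 0, 0, 0], [0, 0, 0, 0, 0, 1, 0, 0], [0, 0, 0, 0, 0, 0, 1, 0], [0, 0, 0, 0, 0, 0, 0, 1]]
def m50 : List (List ℤ) := [[1, 0, 1, 1, 0, 0, 0, 0], [0, 1, 1, 1, 0, 0, 0, 0], [0, 0, 0, -1, 0, 0, 0, 0], [0, 0, 0, 1, 1, 1, 0, 0], [0, 0, 0, 0, 0, -1, 0, 0], [0, 0, -1, -1, -1, 0, 0, 0], [0, 0, 1, 1, 1, 1, 1, 0], [0, 0, 0, 0, 0, 0, 0, 1]]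
def m51 : List (List ℤ) := [[1, 0, 1, 1, 1, 1, 0, 0], [0, 1, 1, 1, 1, 1, 0, 0], [0, 0, 0, -1, -1, -1, 0, 0], [0, 0, 0, 1, 0, 0, 0, 0], [0, 0, 0, 0, 1, 0, 0, 0], [0, 0, -1, -1, -1, 0, 0, 0], [0, 0, 1, 1, 1, 1, 1, 0], [0, 0, 0, 0, 0, 0, 0, 1]]
def m52 : List (List ℤ) := [[-1, -1, -1, -2, -2, -1, -1, -1], [0, 0, 0, 0, 0, -1, -1, -1], [1, 0, 0, 0, 0, 0, 0, 0], [0, 1, 1, 1, 1, 1, 1, 1], [0, 0, 0, 1, 0, 0, 0, 0], [0, -1, 0, -1, 0, 0, 0, 0], [0, 1, 0, 1, 1, 1, 0, 0], [0, 0, 0, 0, 0, 0, 1, 0]]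
def m53 : List (List ℤ) := [[0, 0, -1, -1, -1, -1, 0, 0], [1, 1, 1, 1, 1, 1, 0, 0], [0, 0, 1, 0, 0, 0, 0, 0], [0, 0, 0, 1, 0, 0, 0, 0], [0, 0, 0, 0, 1, 0, 0, 0], [-1, 0, -1, -1, -1, 0, 0, 0], [1, 0, 1, 1, 1, 1, 1, 0], [0, 0, 0, 0, 0, 0, 0, 1]]
def m54 : List (List ℤ) := [[1, 0, 0, 0, 0, 0, 0, 0], [0, -1, 0, -1, -1, 0, 0, 0], [0, 0, 1, 1, 1, 0, 0, 0], [0, 1, 0, 1, 0, 0, 0, 0], [0, 0, 0, -1, 0, 0, 0, 0], [0, 0, 0, 1, 1, 1, 0, 0], [0, 0, 0, 0, 0, 0, 1, 0], [0, 0, 0, 0, 0, 0, 0, 1]]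
def m55 : List (List ℤ) := [[1, 0, 0, 0, 0, 0, 0, 0], [0, -1, 0, 0, 0, 0, 0, 0], [0, 0, 1, 0, 0, 0, 0, 0], [0, 1, 0, 1, 0, 0, 0, 0], [0, 0, 0, 0, 1, 0, 0, 0], [0, 0, 0, 0, 0, 1, 0, 0], [0, 0, 0, 0, 0, 0, 1, 0], [0, 0, 0, 0, 0, 0, 0, 1]]
def m56 : List (List ℤ) := [[-1, 0, -1, -1, -1, -1, 0, 0], [0, 1, 1, 1, 1, 1, 0, 0], [1, 0, 1, 0, 0, 0, 0, 0], [0, 0, 0, 1, 0, 0, 0, 0], [0, 0, 0, 0, 1, 0, 0, 0], [0, 0, -1, -1, -1, 0, 0, 0], [0, 0, 1, 1, 1, 1, 1, 0], [0, 0, 0, 0, 0, 0, 0, 1]]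
def m57 : List (List ℤ) := [[-1, 0, 0, 0, 0, 0, 0, 0], [0, 1, 0, 0, 0, 0, 0, 0], [1, 0, 1, 0, 0, 0, 0, 0], [0, 0, 0, 1, 0, 0, 0, 0], [0, 0, 0, 0, 1, 0, 0, 0], [0, 0, 0, 0, 0, 1, 0, 0], [0, 0, 0, 0, 0, 0, 1, 0], [0, 0, 0, 0, 0, 0, 0, 1]]

def pre : List (List (List ℤ)) := [[[1, 0, 0, 0, 0, 0, 0, 0], [0, 1, 0, 0, 0, 0, 0, 0], [0, 0, 1, 0, 0, 0, 0, 0], [0, 0, 0, 1, 0, 0, 0, 0], [0, 0, 0, 0, 1, 0, 0, 0], [0, 0, 0, 0, 0, 1, 0, 0], [0, 0, 0, 0, 0, 0, 1, 0], [0, 0, 0, 0, 0, 0, 0, 1]], [[-1, 0, 0, 0, 0, 0, 0, 0], [0, 1, 0, 0, 0, 0, 0, 0], [1, 0, 1, 0, 0, 0, 0, 0], [0, 0, 0, 1, 0, 0, 0, 0], [0, 0, 0, 0, 1, 0, 0, 0], [0, 0, 0, 0, 0, 1, 0, 0], [0, 0, 0, 0, 0, 0, 1, 0], [0, 0, 0, 0, 0, 0, 0, 1]], [[-1, 0, 0, 0, 0, 0, 0, 0], [0, -1, 0, 0, 0, 0, 0, 0], [1, 0, 1, 0, 0, 0, 0, 0],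 [0, 1, 0, 1, 0, 0, 0, 0], [0, 0, 0, 0, 1, 0, 0, 0], [0, 0, 0, 0, 0, 1, 0, 0], [0, 0, 0, 0, 0, 0, 1, 0], [0, 0, 0, 0, 0, 0, 0, 1]], [[-1, 0, -1, 0, 0, 0, 0, 0], [0, -1, 0, 0, 0, 0, 0, 0], [1, 0, 0, 0, 0, 0, 0, 0], [0, 1, 1, 1, 0, 0, 0, 0], [0, 0, 0, 0, 1, 0, 0, 0], [0, 0, 0, 0, 0, 1, 0, 0], [0, 0, 0, 0, 0, 0, 1, 0], [0, 0, 0, 0, 0, 0, 0, 1]], [[-1, 0, -1, -1, 0, 0, 0, 0], [0, -1, 0, -1, 0, 0, 0, 0], [1, 0, 0, 0, 0, 0, 0, 0], [0, 1, 1, 1, 0, 0, 0, 0], [0, 0, 0, 1, 1, 0, 0, 0], [0, 0, 0, 0, 0, 1, 0, 0], [0, 0, 0, 0, 0, 0, 1, 0], [0, 0, 0, 0, 0, 0, 0, 1]], [[-1, 0, -1, -1, -1, 0, 0, 0], [0, -1, 0, -1, -1, 0, 0, 0], [1, 0, 0, 0, 0, 0, 0, 0], [0, 1, 1, 1, 1, 0, 0, 0], [0, 0, 0, 1, 0, 0, 0, 0], [0, 0, 0, 0, 1, 1, 0, 0], [0, 0, 0, 0, 0, 0, 1, 0], [0, 0, 0, 0, 0, 0, 0, 1]],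 [[-1, 0, -1, -1, -1, -1, 0, 0], [0, -1, 0, -1, -1, -1, 0, 0], [1, 0, 0, 0, 0, 0, 0, 0], [0, 1, 1, 1, 1, 1, 0, 0], [0, 0, 0, 1, 0, 0, 0, 0], [0, 0, 0, 0, 1, 0, 0, 0], [0, 0, 0, 0, 0, 1, 1, 0], [0, 0, 0, 0, 0, 0, 0, 1]], [[-1, 0, -1, -1, -1, -1, -1, 0], [0, -1, 0, -1, -1, -1, -1, 0], [1, 0, 0, 0, 0, 0, 0, 0], [0, 1, 1, 1, 1, 1, 1, 0], [0, 0, 0, 1, 0, 0, 0, 0], [0, 0, 0, 0, 1, 0, 0, 0], [0, 0, 0, 0, 0, 1, 0, 0], [0, 0, 0, 0, 0, 0, 1, 1]], [[-1, 0, -1, -1, -1, -1, -1, -1], [0, -1, 0, -1, -1, -1, -1, -1], [1, 0, 0, 0, 0, 0, 0, 0], [0, 1, 1, 1, 1, 1, 1, 1], [0, 0, 0, 1, 0, 0, 0, 0], [0, 0, 0, 0, 1, 0, 0, 0], [0, 0, 0, 0, 0, 1, 0, 0], [0, 0, 0, 0, 0, 0, 1, 0]]]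
def gens : List (List (List ℤ)) := [[[-1, 0, 0, 0, 0, 0, 0, 0], [0, 1, 0, 0, 0, 0, 0, 0], [1, 0, 1, 0, 0, 0, 0, 0], [0, 0, 0, 1, 0, 0, 0, 0], [0, 0, 0, 0, 1, 0, 0, 0], [0, 0, 0, 0, 0, 1, 0, 0], [0, 0, 0, 0, 0, 0, 1, 0], [0, 0, 0, 0, 0, 0, 0, 1]], [[1, 0, 0, 0, 0, 0, 0, 0], [0, -1, 0, 0, 0, 0, 0, 0], [0, 0, 1, 0, 0, 0, 0, 0], [0, 1, 0, 1, 0, 0, 0, 0], [0, 0, 0, 0, 1, 0, 0, 0], [0, 0, 0, 0, 0, 1, 0, 0], [0, 0, 0, 0, 0, 0, 1, 0], [0, 0, 0, 0, 0, 0, 0, 1]], [[1, 0, 1, 0, 0, 0, 0, 0], [0, 1, 0, 0, 0, 0, 0, 0], [0, 0, -1, 0, 0, 0, 0, 0], [0, 0, 1, 1, 0, 0, 0, 0], [0, 0, 0, 0, 1, 0, 0, 0], [0, 0, 0, 0, 0, 1, 0, 0], [0, 0, 0, 0, 0, 0, 1, 0], [0, 0, 0, 0, 0, 0, 0, 1]], [[1, 0, 0, 0, 0, 0, 0, 0], [0, 1, 0, 1, 0, 0, 0, 0], [0, 0, 1, 1, 0, 0, 0, 0], [0, 0, 0, -1, 0, 0, 0, 0],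 [0, 0, 0, 1, 1, 0, 0, 0], [0, 0, 0, 0, 0, 1, 0, 0], [0, 0, 0, 0, 0, 0, 1, 0], [0, 0, 0, 0, 0, 0, 0, 1]], [[1, 0, 0, 0, 0, 0, 0, 0], [0, 1, 0, 0, 0, 0, 0, 0], [0, 0, 1, 0, 0, 0, 0, 0], [0, 0, 0, 1, 1, 0, 0, 0], [0, 0, 0, 0, -1, 0, 0, 0], [0, 0, 0, 0, 1, 1, 0, 0], [0, 0, 0, 0, 0, 0, 1, 0], [0, 0, 0, 0, 0, 0, 0, 1]], [[1, 0, 0, 0, 0, 0, 0, 0], [0, 1, 0, 0, 0, 0, 0, 0], [0, 0, 1, 0, 0, 0, 0, 0], [0, 0, 0, 1, 0, 0, 0, 0], [0, 0, 0, 0, 1, 1, 0, 0], [0, 0, 0, 0, 0, -1, 0, 0], [0, 0, 0, 0, 0, 1, 1, 0], [0, 0, 0, 0, 0, 0, 0, 1]], [[1, 0, 0, 0, 0, 0, 0, 0], [0, 1, 0, 0, 0, 0, 0, 0], [0, 0, 1, 0, 0, 0, 0, 0], [0, 0, 0, 1, 0, 0, 0, 0], [0, 0, 0, 0, 1, 0, 0, 0], [0, 0, 0, 0, 0, 1, 1, 0], [0, 0, 0, 0, 0, 0, -1, 0], [0, 0, 0, 0, 0, 0, 1, 1]], [[1, 0, 0, 0, 0, 0, 0, 0], [0, 1, 0,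 0, 0, 0, 0, 0], [0, 0, 1, 0, 0, 0, 0, 0], [0, 0, 0, 1, 0, 0, 0, 0], [0, 0, 0, 0, 1, 0, 0, 0], [0, 0, 0, 0, 0, 1, 0, 0], [0, 0, 0, 0, 0, 0, 1, 1], [0, 0, 0, 0, 0, 0, 0, -1]]]

theorem hdiag : ∀ i, cartE8Cox i i = 2 := by decide +kernel

theorem rho_cox : rho towerE8 ((List.finRange 8).map (((CoxeterMatrix.E₈) : CoxeterMatrix (Fin 8))).simple).prod = toMat 8 m0 :=
  (rho_coxElt towerE8 pre gens (by decide +kernel) (by decide +kernel) (by decide +kernel)).trans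
    (by decide +kernel)

theorem eq_top (S : Subgroup (((CoxeterMatrix.E₈) : CoxeterMatrix (Fin 8))).Group)
    (hc : ((List.finRange 8).map (((CoxeterMatrix.E₈) : CoxeterMatrix (Fin 8))).simple).prod ∈ S)
    (ht3 : (((CoxeterMatrix.E₈) : CoxeterMatrix (Fin 8))).simple 3 ∈ S) : S = ⊤ := by
  have e0 : Mem towerE8 S m0 := ⟨_, hc, rho_cox⟩
  have e1 : Mem towerE8 S m1 := Mem.mul e0 e0 (by decide +kernel)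
  have e2 : Mem towerE8 S m2 := Mem.mul e1 e0 (by decide +kernel)
  have e3 : Mem towerE8 S m3 := Mem.mul e2 e0 (by decide +kernel)
  have e4 : Mem towerE8 S m4 := Mem.mul e3 e0 (by decide +kernel)
  have e5 : Mem towerE8 S m5 := Mem.mul e4 e0 (by decide +kernel)
  have e6 : Mem towerE8 S m6 := Mem.mul e5 e0 (by decide +kernel)
  have e7 : Mem towerE8 S m7 := Mem.mul e6 e0 (by decide +kernel)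
  have e8 : Mem towerE8 S m8 := Mem.mul e7 e0 (by decide +kernel)
  have e9 : Mem towerE8 S m9 := Mem.mul e8 e0 (by decide +kernel)
  have e10 : Mem towerE8 S m10 := Mem.mul e9 e0 (by decide +kernel)
  have e11 : Mem towerE8 S m11 := Mem.mul e10 e0 (by decide +kernel)
  have e12 : Mem towerE8 S m12 := Mem.mul e11 e0 (by decide +kernel)
  have e13 : Mem towerE8 S m13 := Mem.mul e12 e0 (by decide +kernel)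
  have e14 : Mem towerE8 S m14 := Mem.mul e13 e0 (by decide +kernel)
  have e15 : Mem towerE8 S m15 := Mem.mul e14 e0 (by decide +kernel)
  have e16 : Mem towerE8 S m16 := Mem.mul e15 e0 (by decide +kernel)
  have e17 : Mem towerE8 S m17 := Mem.mul e16 e0 (by decide +kernel)
  have e18 : Mem towerE8 S m18 := Mem.mul e17 e0 (by decide +kernel)
  have e19 : Mem towerE8 S m19 := Mem.mul e18 e0 (by decide +kernel)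
  have e20 : Mem towerE8 S m20 := Mem.mul e19 e0 (by decide +kernel)
  have e21 : Mem towerE8 S m21 := Mem.mul e20 e0 (by decide +kernel)
  have e22 : Mem towerE8 S m22 := Mem.mul e21 e0 (by decide +kernel)
  have e23 : Mem towerE8 S m23 := Mem.mul e22 e0 (by decide +kernel)
  have e24 : Mem towerE8 S m24 := Mem.mul e23 e0 (by decide +kernel)
  have e25 : Mem towerE8 S m25 := Mem.mul e24 e0 (by decide +kernel)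
  have e26 : Mem towerE8 S m26 := Mem.mul e25 e0 (by decide +kernel)
  have e27 : Mem towerE8 S m27 := Mem.mul e26 e0 (by decide +kernel)
  have e28 : Mem towerE8 S m28 := Mem.mul e27 e0 (by decide +kernel)
  have e29 : Mem towerE8 S m29 := ⟨_, ht3, rho_simple towerE8 3 m29 (by decide +kernel)⟩
  have e30 : Mem towerE8 S m30 := Mem.mul e0 e29 (by decide +kernel)
  have e31 : Mem towerE8 S m31 := Mem.mul e30 e28 (by decide +kernel)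
  have e32 : Mem towerE8 S m32 := Mem.mul e0 e31 (by decide +kernel)
  have e33 : Mem towerE8 S m33 := Mem.mul e32 e28 (by decide +kernel)
  have e34 : Mem towerE8 S m34 := Mem.mul e29 e31 (by decide +kernel)
  have e35 : Mem towerE8 S m35 := Mem.mul e34 e29 (by decide +kernel)
  have e36 : Mem towerE8 S m36 := Mem.mul e0 e33 (by decide +kernel)
  have e37 : Mem towerE8 S m37 := Mem.mul e36 e28 (by decide +kernel)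
  have e38 : Mem towerE8 S m38 := Mem.mul e31 e33 (by decide +kernel)
  have e39 : Mem towerE8 S m39 := Mem.mul e38 e31 (by decide +kernel)
  have e40 : Mem towerE8 S m40 := Mem.mul e0 e37 (by decide +kernel)
  have e41 : Mem towerE8 S m41 := Mem.mul e40 e28 (by decide +kernel)
  have e42 : Mem towerE8 S m42 := Mem.mul e0 e41 (by decide +kernel)
  have e43 : Mem towerE8 S m43 := Mem.mul e42 e28 (by decide +kernel)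
  have e44 : Mem towerE8 S m44 := Mem.mul e0 e43 (by decide +kernel)
  have e45 : Mem towerE8 S m45 := Mem.mul e44 e28 (by decide +kernel)
  have e46 : Mem towerE8 S m46 := Mem.mul e0 e45 (by decide +kernel)
  have e47 : Mem towerE8 S m47 := Mem.mul e46 e28 (by decide +kernel)
  have e48 : Mem towerE8 S m48 := Mem.mul e29 e45 (by decide +kernel)
  have e49 : Mem towerE8 S m49 := Mem.mul e48 e29 (by decide +kernel)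
  have e50 : Mem towerE8 S m50 := Mem.mul e39 e45 (by decide +kernel)
  have e51 : Mem towerE8 S m51 := Mem.mul e50 e39 (by decide +kernel)
  have e52 : Mem towerE8 S m52 := Mem.mul e0 e47 (by decide +kernel)
  have e53 : Mem towerE8 S m53 := Mem.mul e52 e28 (by decide +kernel)
  have e54 : Mem towerE8 S m54 := Mem.mul e35 e47 (by decide +kernel)
  have e55 : Mem towerE8 S m55 := Mem.mul e54 e35 (by decide +kernel)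
  have e56 : Mem towerE8 S m56 := Mem.mul e51 e53 (by decide +kernel)
  have e57 : Mem towerE8 S m57 := Mem.mul e56 e51 (by decide +kernel)
  refine eq_top_of_simple_mem fun i => ?_
  fin_cases i
  · exact Mem.simple_mem e57 (by decide +kernel)
  · exact Mem.simple_mem e55 (by decide +kernel)
  · exact Mem.simple_mem e49 (by decide +kernel)
  · exact Mem.simple_mem e29 (by decide +kernel)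
  · exact Mem.simple_mem e31 (by decide +kernel)
  · exact Mem.simple_mem e33 (by decide +kernel)
  · exact Mem.simple_mem e37 (by decide +kernel)
  · exact Mem.simple_mem e41 (by decide +kernel)

theorem center_eq :
    Nat.card (Subgroup.center (((CoxeterMatrix.E₈) : CoxeterMatrix (Fin 8))).Group) = 2 ∧
      Subgroup.center (((CoxeterMatrix.E₈) : CoxeterMatrix (Fin 8))).Group ≤ Subgroup.zpowers ((List.finRange 8).map (((CoxeterMatrix.E₈) : CoxeterMatrix (Fin 8))).simple).prod := by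
  have hc : ((List.finRange 8).map (((CoxeterMatrix.E₈) : CoxeterMatrix (Fin 8))).simple).prod ∈ Subgroup.zpowers ((List.finRange 8).map (((CoxeterMatrix.E₈) : CoxeterMatrix (Fin 8))).simple).prod := Subgroup.mem_zpowers _
  have e0 : Mem towerE8 (Subgroup.zpowers ((List.finRange 8).map (((CoxeterMatrix.E₈) : CoxeterMatrix (Fin 8))).simple).prod) m0 := ⟨_, hc, rho_cox⟩
  have e1 : Mem towerE8 (Subgroup.zpowers ((List.finRange 8).map (((CoxeterMatrix.E₈) : CoxeterMatrix (Fin 8))).simple).prod) m1 := Mem.mul e0 e0 (by decide +kernel)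
  have e2 : Mem towerE8 (Subgroup.zpowers ((List.finRange 8).map (((CoxeterMatrix.E₈) : CoxeterMatrix (Fin 8))).simple).prod) m2 := Mem.mul e1 e0 (by decide +kernel)
  have e3 : Mem towerE8 (Subgroup.zpowers ((List.finRange 8).map (((CoxeterMatrix.E₈) : CoxeterMatrix (Fin 8))).simple).prod) m3 := Mem.mul e2 e0 (by decide +kernel)
  have e4 : Mem towerE8 (Subgroup.zpowers ((List.finRange 8).map (((CoxeterMatrix.E₈) : CoxeterMatrix (Fin 8))).simple).prod) m4 := Mem.mul e3 e0 (by decide +kernel)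
  have e5 : Mem towerE8 (Subgroup.zpowers ((List.finRange 8).map (((CoxeterMatrix.E₈) : CoxeterMatrix (Fin 8))).simple).prod) m5 := Mem.mul e4 e0 (by decide +kernel)
  have e6 : Mem towerE8 (Subgroup.zpowers ((List.finRange 8).map (((CoxeterMatrix.E₈) : CoxeterMatrix (Fin 8))).simple).prod) m6 := Mem.mul e5 e0 (by decide +kernel)
  have e7 : Mem towerE8 (Subgroup.zpowers ((List.finRange 8).map (((CoxeterMatrix.E₈) : CoxeterMatrix (Fin 8))).simple).prod) m7 := Mem.mul e6 e0 (by decide +kernel)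
  have e8 : Mem towerE8 (Subgroup.zpowers ((List.finRange 8).map (((CoxeterMatrix.E₈) : CoxeterMatrix (Fin 8))).simple).prod) m8 := Mem.mul e7 e0 (by decide +kernel)
  have e9 : Mem towerE8 (Subgroup.zpowers ((List.finRange 8).map (((CoxeterMatrix.E₈) : CoxeterMatrix (Fin 8))).simple).prod) m9 := Mem.mul e8 e0 (by decide +kernel)
  have e10 : Mem towerE8 (Subgroup.zpowers ((List.finRange 8).map (((CoxeterMatrix.E₈) : CoxeterMatrix (Fin 8))).simple).prod) m10 := Mem.mul e9 e0 (by decide +kernel)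
  have e11 : Mem towerE8 (Subgroup.zpowers ((List.finRange 8).map (((CoxeterMatrix.E₈) : CoxeterMatrix (Fin 8))).simple).prod) m11 := Mem.mul e10 e0 (by decide +kernel)
  have e12 : Mem towerE8 (Subgroup.zpowers ((List.finRange 8).map (((CoxeterMatrix.E₈) : CoxeterMatrix (Fin 8))).simple).prod) m12 := Mem.mul e11 e0 (by decide +kernel)
  have e13 : Mem towerE8 (Subgroup.zpowers ((List.finRange 8).map (((CoxeterMatrix.E₈) : CoxeterMatrix (Fin 8))).simple).prod) m13 := Mem.mul e12 e0 (by decide +kernel)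
  have e14 : Mem towerE8 (Subgroup.zpowers ((List.finRange 8).map (((CoxeterMatrix.E₈) : CoxeterMatrix (Fin 8))).simple).prod) m14 := Mem.mul e13 e0 (by decide +kernel)
  exact center_two towerE8 hdiag 0 ![0, 3, 0, 2, 3, 4, 5, 6] (by decide +kernel) e14 (by decide +kernel)

end CfsgLib.KnownSimple.CoxeterCert.E8
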